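import Groth.Agent.Fano.K470.CurDef
import Groth.Agent.Fano.K714.Codim
import Groth.Agent.Fano.K714.Comp

/-!
# The unique component through a nonsingular point

`unique_comp`: `h = 0` is smooth at `y₀` with surjective differential `D`: there is a largest irreducible subset of
`h = 0` among those having `y₀` in their closure.
-/

set_option autoImplicit false

universe u

namespace K289.UniqComp

open LefPen Groth.Agent.Lefpen.H703.ZOpen Module K714.Irr K714.Frames K470.Cur MvPolynomial

variable {k : Type u} [Field k]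

/-- Taylor expansion to first order along a line. -/
theorem taylor {σ : Type} [Fintype σ] (P : MvPolynomial σ k) (x w : σ → k) :
    ∃ q : Polynomial k, ∀ τ : k, eval (x + τ • w) P =
      eval x P + τ * ∑ l, w l * eval x (pderiv l P) + τ ^ 2 * q.eval τ := by
  classical
  induction P using MvPolynomial.induction_on with
  | C a => exact ⟨0, fun τ => by simp⟩
  | add p q hp hq =>
    obtain ⟨r, hr⟩ := hp
    obtain ⟨s, hs⟩ := hq
    refine ⟨r + s, fun τ => ?_⟩
    simp only [map_add, hr, hs, mul_add, Finset.sum_add_distrib, Polynomial.eval_add]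
    ring
  | mul_X p i hp =>
    obtain ⟨r, hr⟩ := hp
    refine ⟨Polynomial.C (w i * ∑ l, w l * eval x (pderiv l p)) + Polynomial.C (x i) * r +
      Polynomial.X * (Polynomial.C (w i) * r), fun τ => ?_⟩
    have h1 : ∑ l, w l * eval x (pderiv l (p * X i)) =
        x i * ∑ l, w l * eval x (pderiv l p) + w i * eval x p := by
      rw [Finset.mul_sum]
      have h2 : w i * eval x p = ∑ l, if l = i then w l * eval x p else 0 := by
        rw [Finset.sum_ite_eq' Finset.univ i]
        simp
      rw [h2, ← Finset.sum_add_distrib]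
      refine Finset.sum_congr rfl fun l _ => ?_
      rw [Derivation.leibniz]
      by_cases hl : l = i
      · subst hl
        simp
        ring
      · rw [pderiv_X_of_ne (Ne.symm hl)]
        simp [hl]
        ring
    rw [h1, map_mul, map_mul, hr, eval_X, eval_X]
    simp only [Pi.add_apply, Pi.smul_apply, smul_eq_mul, Polynomial.eval_add, Polynomial.eval_mul,
      Polynomial.eval_C, Polynomial.eval_X]
    ring

/-- uniqueness of the linear term -/
theorem linear_term_unique [Infinite k] {a a' : k} {q q' : Polynomial k}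
    (h : ∀ τ : k, τ * a + τ ^ 2 * q.eval τ = τ * a' + τ ^ 2 * q'.eval τ) : a = a' := by
  have h1 : Polynomial.X * Polynomial.C a + Polynomial.X ^ 2 * q =
      Polynomial.X * Polynomial.C a' + Polynomial.X ^ 2 * q' := by
    refine Polynomial.funext fun τ => ?_
    simp only [Polynomial.eval_add, Polynomial.eval_mul, Polynomial.eval_X, Polynomial.eval_C, Polynomial.eval_pow]
    exact h τ
  have h2 := congrArg (fun f => Polynomial.coeff f 1) h1
  simpa [Polynomial.coeff_X_pow_mul'] using h2

variable {V : Type u} [AddCommGroup V] [Module k V]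

variable [IsAlgClosed k] [FiniteDimensional k V]

/-- The differential is given by the gradients. -/
theorem nonsing {ι : Type} [Finite ι] {h : ι → V → k} {y₀ : V}
    (h0 : ∀ i, h i y₀ = 0) (D : V →ₗ[k] (ι → k)) (hD : Function.Surjective D)
    (hder : ∀ i v, ∃ q : Polynomial k, ∀ τ : k, h i (y₀ + τ • v) = τ * D v i + τ ^ 2 * q.eval τ)
    (H : ι → MvPolynomial (Fin (finrank k V)) k) (hH : ∀ i v, h i v = eval ((finBasis k V).equivFun v) (H i)) :
    K714.Comp.NS H ((finBasis k V).equivFun y₀) := by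
  classical
  cases nonempty_fintype ι
  have : Infinite k := IsAlgClosed.instInfinite
  refine ⟨fun i => by rw [← hH, h0], ?_⟩
  have hgrad : ∀ i v, D v i = ∑ l, (finBasis k V).equivFun v l *
      eval ((finBasis k V).equivFun y₀) (pderiv l (H i)) := by
    intro i v
    obtain ⟨q, hq⟩ := hder i v
    obtain ⟨q', hq'⟩ := taylor (H i) ((finBasis k V).equivFun y₀) ((finBasis k V).equivFun v)
    refine linear_term_unique (q := q) (q' := q') fun τ => ?_
    rw [← hq, hH, map_add, map_smul, hq', ← hH, h0, zero_add]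
  rw [Fintype.linearIndependent_iff]
  intro c hc i
  obtain ⟨v, hv⟩ := hD (Pi.single i 1)
  have h1 : ∑ j, c j * D v j = 0 := by
    have h2 : ∀ j, c j * D v j = ∑ l, (finBasis k V).equivFun v l *
        (c j * eval ((finBasis k V).equivFun y₀) (pderiv l (H j))) := by
      intro j
      rw [hgrad, Finset.mul_sum]
      exact Finset.sum_congr rfl fun l _ => by ring
    rw [Finset.sum_congr rfl fun j _ => h2 j, Finset.sum_comm]
    refine Finset.sum_eq_zero fun l _ => ?_
    rw [← Finset.mul_sum]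
    have h3 := congrFun hc l
    simp only [Finset.sum_apply, Pi.smul_apply, smul_eq_mul, Pi.zero_apply] at h3
    rw [h3, mul_zero]
  rw [hv] at h1
  simpa [Pi.single_apply] using h1

omit [FiniteDimensional k V] in
/-- The zero set of a prime ideal is irreducible. -/
theorem irr_zeroLocus {N : ℕ} (b : Basis (Fin N) k V) (P : Ideal (MvPolynomial (Fin N) k)) [hP : P.IsPrime] :
    Irr k {v : V | b.equivFun v ∈ zeroLocus k P} := by
  refine ⟨?_, ?_⟩
  · obtain ⟨x, hx⟩ := K714.Codim.exists_mem_zeroLocus P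
    exact ⟨b.equivFun.symm x, by rw [Set.mem_ofPred_eq, LinearEquiv.apply_symm_apply]; exact hx⟩
  rintro O O' hO hO' ⟨v, hv, hvO⟩ ⟨w, hw, hwO⟩
  obtain ⟨f, hf, hfv, hfO⟩ := hO v hvO
  obtain ⟨g, hg, hgw, hgO⟩ := hO' w hwO
  obtain ⟨F, hF⟩ := K714.Codim.exists_mvPoly b hf
  obtain ⟨G, hG⟩ := K714.Codim.exists_mvPoly b hg
  have hFP : F ∉ P := fun h => hfv (by rw [hF, ← aeval_eq_eval]; exact hv F h)
  have hGP : G ∉ P := fun h => hgw (by rw [hG, ← aeval_eq_eval]; exact hw G h)
  have hFG : F * G ∉ P := fun h => (hP.mem_or_mem h).elim hFP hGP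
  rw [← IsPrime.vanishingIdeal_zeroLocus (K := k) P, mem_vanishingIdeal_iff] at hFG
  push Not at hFG
  obtain ⟨x, hx, hne⟩ := hFG
  rw [map_mul, aeval_eq_eval] at hne
  refine ⟨b.equivFun.symm x, by rw [Set.mem_ofPred_eq, LinearEquiv.apply_symm_apply]; exact hx, hfO _ ?_, hgO _ ?_⟩
  · rw [hF, LinearEquiv.apply_symm_apply]; exact left_ne_zero_of_mul hne
  · rw [hG, LinearEquiv.apply_symm_apply]; exact right_ne_zero_of_mul hne

/-- `h = 0` is smooth at `y₀` with surjective differential `D`: there is a largest irreducible subset of `h = 0`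
among those having `y₀` in their closure. -/
theorem unique_comp {ι : Type} [Finite ι] {h : ι → V → k} (hh : ∀ i, IsPolyFun k (h i)) {y₀ : V}
    (h0 : ∀ i, h i y₀ = 0) (D : V →ₗ[k] (ι → k)) (hD : Function.Surjective D)
    (hder : ∀ i v, ∃ q : Polynomial k, ∀ τ : k, h i (y₀ + τ • v) = τ * D v i + τ ^ 2 * q.eval τ) :
    ∃ C : Set V, C ⊆ {v | ∀ i, h i v = 0} ∧ Irr k C ∧
      ∀ S : Set V, S ⊆ {v | ∀ i, h i v = 0} → Irr k S → y₀ ∈ Cl k S → S ⊆ C := by
  classical
  have : Infinite k := IsAlgClosed.instInfinite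
  let b := finBasis k V
  choose H hH using fun i => K714.Codim.exists_mvPoly b (hh i)
  obtain ⟨P, hP, hspan, -, hmin, -⟩ := K714.Comp.exists_prime H (nonsing h0 D hD hder H hH)
  refine ⟨{v : V | b.equivFun v ∈ zeroLocus k P}, ?_, irr_zeroLocus b P, ?_⟩
  · intro v hv i
    rw [hH, ← aeval_eq_eval]
    exact hv (H i) (hspan (Ideal.subset_span ⟨i, rfl⟩))
  intro S hS hirr hy
  let p : Ideal (MvPolynomial (Fin (finrank k V)) k) := vanishingIdeal k (b.equivFun '' S)
  have hp : p.IsPrime := by
    constructor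
    · rw [Ne, Ideal.eq_top_iff_one]
      intro h1
      obtain ⟨v, hv⟩ := hirr.1
      have := h1 _ ⟨v, hv, rfl⟩
      simp at this
    · intro F G hFG
      by_contra hcon
      push Not at hcon
      obtain ⟨hF, hG⟩ := hcon
      rw [mem_vanishingIdeal_iff] at hF hG
      push Not at hF hG
      obtain ⟨_, ⟨v, hv, rfl⟩, hvF⟩ := hF
      obtain ⟨_, ⟨w, hw, rfl⟩, hwG⟩ := hG
      obtain ⟨z, hz, hz1, hz2⟩ := hirr.2 _ _ (isZOpen_basic (K714.Codim.isPolyFun_eval_coord b F))
        (isZOpen_basic (K714.Codim.isPolyFun_eval_coord b G)) ⟨v, hv, by simpa [aeval_eq_eval] using hvF⟩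
        ⟨w, hw, by simpa [aeval_eq_eval] using hwG⟩
      have h1 := hFG _ ⟨z, hz, rfl⟩
      rw [map_mul, aeval_eq_eval] at h1
      exact mul_ne_zero hz1 hz2 h1
  have h1 : Ideal.span (Set.range H) ≤ p := by
    rw [Ideal.span_le]
    rintro _ ⟨i, rfl⟩
    rintro _ ⟨v, hv, rfl⟩
    rw [aeval_eq_eval, ← hH]
    exact hS hv i
  have h2 : p ≤ K714.Comp.mx (b.equivFun y₀) := by
    intro F hF
    rw [K714.Comp.mem_mx]
    by_contra hne
    obtain ⟨z, hz, hz1⟩ := hy _ (isZOpen_basic (K714.Codim.isPolyFun_eval_coord b F)) hne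
    apply hz1
    have h1 := hF _ ⟨z, hz, rfl⟩
    rwa [aeval_eq_eval] at h1
  intro v hv F hF
  exact hmin p hp h1 h2 hF _ ⟨v, hv, rfl⟩

end K289.UniqComp
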